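import Groth.Agent.SubAvoid14.Avoid
import Groth.Agent.Coherent.DevissageIdeal
import Groth.Agent.Coherent.CohOps

/-!
# Extending homomorphisms of coherent modules from an open, after shrinking the source (EGA I 9.4)
-/

set_option autoImplicit false
set_option backward.isDefEq.respectTransparency false
set_option maxHeartbeats 800000

universe u

open CategoryTheory CategoryTheory.Limits AlgebraicGeometry Opposite TopologicalSpace
open Groth.Agent.Coherent Groth.Agent.AssSch12

namespace Groth.Agent.SubAvoid14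

variable {X : Scheme.{u}}

local notation "St" => DerSch.stalkFunctor X

theorem isIso_restrict_of_bijective {M N : X.Modules} (φ : M ⟶ N) (U : X.Opens)
    (h : ∀ z ∈ U, Function.Bijective ((St z).map φ)) :
    IsIso ((Scheme.Modules.restrictFunctor U.ι).map φ) := by
  refine Scheme.Modules.Hom.isIso_iff_isIso_app.2 fun W => ?_
  refine (ConcreteCategory.isIso_iff_bijective _).2 ?_
  exact TopCat.Presheaf.app_bijective_of_stalkFunctor_map_bijective
    (F := ⟨M.presheaf, M.isSheaf⟩) (G := ⟨N.presheaf, N.isSheaf⟩) ⟨φ.mapPresheaf⟩ (U.ι ''ᵁ W)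
    fun z hz => h z (U.ι_image_le W hz)

theorem bijective_of_isIso_restrict {M N : X.Modules} (φ : M ⟶ N) (U : X.Opens)
    [IsIso ((Scheme.Modules.restrictFunctor U.ι).map φ)] {z : X} (hz : z ∈ U) :
    Function.Bijective ((St z).map φ) := by
  have hz' : Function.Bijective ((St z).map
      ((Coh.push U.ι).map ((Scheme.Modules.restrictFunctor U.ι).map φ))) :=
    ConcreteCategory.bijective_of_isIso _
  have hn := congrArg (fun q => (St z).map q)
    ((Scheme.Modules.restrictAdjunction U.ι).unit.naturality φ)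
  simp only [Functor.id_map, Functor.comp_map, Functor.map_comp] at hn
  have hM := bijective_stalk_restrictUnit M hz
  have hN := bijective_stalk_restrictUnit N hz
  have hc : ⇑((St z).map ((Scheme.Modules.restrictAdjunction U.ι).unit.app N)) ∘ ⇑((St z).map φ) =
      ⇑((St z).map ((Coh.push U.ι).map ((Scheme.Modules.restrictFunctor U.ι).map φ))) ∘
        ⇑((St z).map ((Scheme.Modules.restrictAdjunction U.ι).unit.app M)) := funext fun a =>
    congrArg (fun q : (St z).obj M ⟶ _ => q a) hn
  refine (Function.Bijective.of_comp_iff' hN _).1 ?_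
  rw [hc]
  exact hz'.comp hM

variable [IsLocallyNoetherian X]

/-- A map on an open extends to a coherent submodule agreeing there, which moreover is pure along the
complement: maps into it vanishing on stalks in the open vanish. -/
theorem exists_hom_extension' (F G : X.Modules) (hF : Coh.IsCoh F) (hG : Coh.IsCoh G) (U : X.Opens)
    (φ : (Scheme.Modules.restrictFunctor U.ι).obj F ⟶ (Scheme.Modules.restrictFunctor U.ι).obj G) :
    ∃ (F' : X.Modules) (ι : F' ⟶ F) (φ' : F' ⟶ G), Mono ι ∧ Coh.IsCoh F' ∧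
      IsIso ((Scheme.Modules.restrictFunctor U.ι).map ι) ∧
      (Scheme.Modules.restrictFunctor U.ι).map φ' = (Scheme.Modules.restrictFunctor U.ι).map ι ≫ φ ∧
      ∀ (P : X.Modules) (t : P ⟶ F'), (∀ z ∈ U, ∀ w, (St z).map t w = 0) → t = 0 := by
  haveI := hF.1
  haveI := hG.1
  let adj := Scheme.Modules.restrictAdjunction U.ι
  let η := fun M : X.Modules => adj.unit.app M
  let a : F ⟶ (Coh.push U.ι).obj (G.restrict U.ι) := η F ≫ (Coh.push U.ι).map φ
  let d : F ⊞ G ⟶ (Coh.push U.ι).obj (G.restrict U.ι) := biprod.desc a (-η G)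
  have hdec : d = biprod.fst ≫ a - biprod.snd ≫ η G := by
    apply biprod.hom_ext' <;> simp [d]
  have hP : Coh.IsCoh (F ⊞ G) :=
    isCoh_X₂ (ShortComplex.Splitting.ofHasBinaryBiproduct F G).shortExact hF hG
  haveI := hP.1
  haveI : Coh.IsQCoh (G.restrict U.ι) :=
    inferInstanceAs ((Scheme.Modules.restrictFunctor U.ι).obj G).IsQuasicoherent
  haveI : Coh.IsQCoh ((Coh.push U.ι).obj (G.restrict U.ι)) := isQCoh_push U.ι _
  have hK : Coh.IsCoh (kernel d) := isCoh_kernel d hP ‹_›
  let T : Set X := (U : Set X)ᶜ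
  have hT : IsClosed T := U.2.isClosed_compl
  let F' := avoidMod (kernel d) hK T
  let p : kernel d ⟶ F := kernel.ι d ≫ biprod.fst
  let q : kernel d ⟶ G := kernel.ι d ≫ biprod.snd
  have hpq : p ≫ a = q ≫ η G := by
    rw [← sub_eq_zero, Category.assoc, Category.assoc, ← Preadditive.comp_sub]
    exact (congrArg (kernel.ι d ≫ ·) hdec.symm).trans (kernel.condition d)
  have hTy : ∀ (z : X) (e : (St z).obj (F ⊞ G)), (St z).map d e = 0 → ∃ w, (St z).map (kernel.ι d) w = e :=
    fun z e he => ((ShortComplex.ShortExact.moduleCat_exact_iff_function_exact _).1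
      ((ShortComplex.exact_kernel d).map (St z)) e).1 he
  have hinj : ∀ z ∈ U, ∀ w, (St z).map p w = 0 → w = 0 := fun z hz w hw => by
    have h1 : (St z).map q w = 0 := by
      apply (bijective_stalk_restrictUnit G hz).1
      rw [map_zero]
      refine (stalk_comp_apply q (η G) w).trans ?_
      rw [← hpq, ← stalk_comp_apply, hw, map_zero]
    apply (ModuleCat.mono_iff_injective ((St z).map (kernel.ι d))).1 inferInstance
    rw [map_zero]
    have htot : biprod.fst ≫ biprod.inl + biprod.snd ≫ biprod.inr = 𝟙 (F ⊞ G) := biprod.total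
    rw [← stalk_id_apply _ ((St z).map (kernel.ι d) w), ← htot, stalk_add_apply, ← stalk_comp_apply,
      ← stalk_comp_apply, stalk_comp_apply (kernel.ι d), stalk_comp_apply (kernel.ι d)]
    erw [hw, h1]
    rw [map_zero, map_zero, add_zero]
  have hsurj : ∀ z ∈ U, Function.Surjective ((St z).map p) := fun z hz u => by
    obtain ⟨v, hv⟩ := (bijective_stalk_restrictUnit G hz).2 ((St z).map a u)
    let e := (St z).map (biprod.inl : F ⟶ F ⊞ G) u + (St z).map (biprod.inr : G ⟶ F ⊞ G) v
    obtain ⟨w, hw⟩ := hTy z e (by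
      simp only [e, map_add]
      rw [stalk_comp_apply, stalk_comp_apply, biprod.inl_desc, biprod.inr_desc, (St z).map_neg]
      exact add_neg_eq_zero.2 hv.symm)
    refine ⟨w, (stalk_comp_apply (kernel.ι d) biprod.fst w).symm.trans ?_⟩
    rw [show (St z).map (kernel.ι d) w = e from hw]
    simp only [e, map_add]
    rw [stalk_comp_apply, stalk_comp_apply]
    erw [biprod.inl_fst, biprod.inr_fst]
    rw [stalk_id_apply, stalk_zero_apply, add_zero]
  have hbij : ∀ z ∈ U, Function.Bijective ((St z).map (avoidι (kernel d) hK T ≫ p)) := fun z hz => by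
    have hp : Function.Bijective ((St z).map p) :=
      ⟨(injective_iff_map_eq_zero ((St z).map p).hom).2 (hinj z hz), hsurj z hz⟩
    have h := hp.comp (bijective_stalk_avoidι (kernel d) hK T hT (fun h => h hz))
    rwa [show ⇑((St z).map p) ∘ ⇑((St z).map (avoidι (kernel d) hK T)) =
      ⇑((St z).map (avoidι (kernel d) hK T ≫ p)) from funext fun _ => stalk_comp_apply _ _ _] at h
  let ι := avoidι (kernel d) hK T ≫ p
  refine ⟨F', ι, avoidι (kernel d) hK T ≫ q,
    Preadditive.mono_of_cancel_zero _ fun {P} t ht => eq_zero_of_stalk (kernel d) hK T t fun z hz w => ?_,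
    isCoh_avoidMod (kernel d) hK T, isIso_restrict_of_bijective ι U hbij, ?_,
    fun P t ht => eq_zero_of_stalk (kernel d) hK T t fun z hz => ht z (not_not.1 hz)⟩
  · apply (hbij z (not_not.1 hz)).1
    rw [map_zero]
    refine (stalk_comp_apply t ι w).trans ?_
    rw [ht]
    exact stalk_zero_apply w
  · refine (adj.homEquiv F' _).injective ?_
    let R := Scheme.Modules.restrictFunctor U.ι
    let P := Coh.push U.ι
    show adj.unit.app F' ≫ P.map (R.map (avoidι (kernel d) hK T ≫ q)) = adj.unit.app F' ≫ P.map (R.map ι ≫ φ)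
    have h1 : adj.unit.app F' ≫ P.map (R.map (avoidι (kernel d) hK T ≫ q)) =
        (avoidι (kernel d) hK T ≫ q) ≫ η G := (adj.unit.naturality _).symm
    have h2 : adj.unit.app F' ≫ P.map (R.map ι) = ι ≫ η F := (adj.unit.naturality _).symm
    calc adj.unit.app F' ≫ P.map (R.map (avoidι (kernel d) hK T ≫ q))
        = (avoidι (kernel d) hK T ≫ q) ≫ η G := h1
      _ = avoidι (kernel d) hK T ≫ q ≫ η G := Category.assoc _ _ _
      _ = avoidι (kernel d) hK T ≫ p ≫ a := congrArg (avoidι (kernel d) hK T ≫ ·) hpq.symm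
      _ = (ι ≫ η F) ≫ P.map φ := by simp only [ι, a, P, Category.assoc]
      _ = (adj.unit.app F' ≫ P.map (R.map ι)) ≫ P.map φ := congrArg (· ≫ P.map φ) h2.symm
      _ = adj.unit.app F' ≫ P.map (R.map ι ≫ φ) :=
          (Category.assoc _ _ _).trans (congrArg (adj.unit.app F' ≫ ·) (P.map_comp _ _).symm)

/-- A map on an open extends to a coherent submodule agreeing there. -/
theorem exists_hom_extension (F G : X.Modules) (hF : Coh.IsCoh F) (hG : Coh.IsCoh G) (U : X.Opens)
    (φ : (Scheme.Modules.restrictFunctor U.ι).obj F ⟶ (Scheme.Modules.restrictFunctor U.ι).obj G) :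
    ∃ (F' : X.Modules) (ι : F' ⟶ F) (φ' : F' ⟶ G), Mono ι ∧ Coh.IsCoh F' ∧
      IsIso ((Scheme.Modules.restrictFunctor U.ι).map ι) ∧
      (Scheme.Modules.restrictFunctor U.ι).map φ' = (Scheme.Modules.restrictFunctor U.ι).map ι ≫ φ := by
  obtain ⟨F', ι, φ', h₁, h₂, h₃, h₄, -⟩ := exists_hom_extension' F G hF hG U φ
  exact ⟨F', ι, φ', h₁, h₂, h₃, h₄⟩

end Groth.Agent.SubAvoid14
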