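import Groth.Agent.SubAvoid14.IdealMul
import Groth.Agent.Coherent.CohBC.LocalModules
import Groth.Agent.SDiv28.GenFreeRank

/-!
# Coherent modules killed by the maximal ideal at the generic point of an integral closed subscheme
-/

set_option autoImplicit false
set_option backward.isDefEq.respectTransparency false
set_option maxHeartbeats 800000

universe u

open CategoryTheory CategoryTheory.Limits AlgebraicGeometry Opposite TopologicalSpace
open Groth.Agent.Coherent Groth.Agent.AssSch12 Groth.Agent.ModStalk

namespace Groth.Agent.SubAvoid14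

variable {X : Scheme.{u}}

local notation "St" => DerSch.stalkFunctor X

theorem bijective_app_of_stalks {M N : X.Modules} (φ : M ⟶ N) (V : X.Opens)
    (h : ∀ z ∈ V, Function.Bijective ((St z).map φ)) : Function.Bijective (φ.app V) :=
  TopCat.Presheaf.app_bijective_of_stalkFunctor_map_bijective
    (F := ⟨M.presheaf, M.isSheaf⟩) (G := ⟨N.presheaf, N.isSheaf⟩) ⟨φ.mapPresheaf⟩ V
    fun z hz => h z hz

/-- A coherent module with stalk killed by the maximal ideal at the generic point of an integral closed
subscheme contains a submodule from the subscheme, equal to it near that point. -/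
theorem exists_killed_sub [IsLocallyNoetherian X] {Z : Scheme.{u}} (i : Z ⟶ X) [IsClosedImmersion i]
    [IsIntegral Z] {F : X.Modules} (hF : Coh.IsCoh F) (hk : Killed (i (genericPoint Z)) 1 F) :
    ∃ (T : Set X) (N : X.Modules) (a : N ⟶ F), IsClosed T ∧ i (genericPoint Z) ∉ T ∧ Mono a ∧
      Coh.IsCoh N ∧ ClSub.KilledByIdeal i.ker N ∧ ∀ z, z ∉ T → Function.Bijective ((St z).map a) := by
  haveI := hF.1
  let ξ := i (genericPoint Z)
  let c := skyMap (X := X) ξ (𝟙 ((St ξ).obj F))
  haveI := isQCoh_sky_of_killed ξ 1 (A := (St ξ).obj F) hk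
  haveI : Coh.IsQCoh (Abelian.image c) := isQCoh_image c
  let p : F ⟶ Abelian.image c := Abelian.factorThruImage c
  have hker : Coh.IsCoh (kernel p) := isCoh_kernel p hF ‹_›
  let T : Set X := CohB1.support (kernel p)
  have hT : IsClosed T := isClosed_support _ (locallyFinGen_of_isFT _ hker.2)
  have hexact : ∀ z, Function.Exact ((St z).map (kernel.ι p)) ((St z).map p) := fun z =>
    (ShortComplex.ShortExact.moduleCat_exact_iff_function_exact _).1
      ((ShortComplex.exact_kernel p).map (St z))
  have hξ : ξ ∉ T := fun h => h (subsingleton_of_forall_eq 0 fun w => by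
    apply (ModuleCat.mono_iff_injective ((St ξ).map (kernel.ι p))).1 inferInstance
    refine Eq.trans ?_ (map_zero ((St ξ).map (kernel.ι p)).hom).symm
    have h1 := stalk_comp_apply (kernel.ι p ≫ p) (Abelian.image.ι c) (y := ξ) w
    rw [Category.assoc, show p ≫ Abelian.image.ι c = c from Abelian.image.fac c, kernel.condition] at h1
    rw [stalk_zero_apply, map_zero, ← stalk_comp_apply] at h1
    exact (stalk_skyMap_eq_iff ξ (𝟙 _) (𝟙 _) ((St ξ).map (kernel.ι p) w) 0).1
      (h1.symm.trans (map_zero _).symm))
  let a := avoidι F hF T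
  have hkill : ClSub.KilledByIdeal i.ker (Abelian.image c) := fun U r hr m => by
    apply Coherent.app_injective_of_mono (Abelian.image.ι c) U.1
    rw [map_zero]
    refine ((Abelian.image.ι c).app_smul r m).trans ?_
    refine sval_ext (A := (St ξ).obj F) (U := U.1) fun h => ?_
    refine Eq.trans ?_ (sval_zero (A := (St ξ).obj F) (U := U.1) h).symm
    refine hk _ ?_ _
    rw [pow_one]
    rw [Scheme.Hom.ker_apply, RingHom.mem_ker] at hr
    intro hu
    have h2 : IsUnit ((i.stalkMap (genericPoint Z)) (X.presheaf.germ U.1 (i (genericPoint Z)) h r)) :=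
      hu.map (i.stalkMap (genericPoint Z)).hom
    rw [Scheme.Hom.germ_stalkMap_apply, hr, map_zero] at h2
    exact not_isUnit_zero h2
  haveI hm : Mono (a ≫ p) := Preadditive.mono_of_cancel_zero _ fun {P} t ht =>
    eq_zero_of_stalk F hF T t fun z hz w => by
      apply (ModuleCat.mono_iff_injective ((St z).map a)).1 inferInstance
      rw [map_zero]
      obtain ⟨v, hv⟩ := (hexact z ((St z).map a ((St z).map t w))).1 (by
        rw [stalk_comp_apply, stalk_comp_apply, ht]
        exact stalk_zero_apply w)
      rw [← hv, show v = 0 from (not_not.1 hz : Subsingleton ((kernel p).presheaf.stalk z)).elim _ _]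
      exact map_zero _
  refine ⟨T, _, a, hT, hξ, inferInstance, isCoh_avoidMod F hF T, fun U r hr m => ?_,
    fun z hz => bijective_stalk_avoidι F hF T hT hz⟩
  apply Coherent.app_injective_of_mono (a ≫ p) U.1
  rw [map_zero]
  exact ((a ≫ p).app_smul r m).trans (hkill U r hr _)

attribute [local instance] hasFiniteBiproducts in
/-- A submodule of a free module on an integral scheme agreeing with it on an open contains the free
module on an ideal agreeing with the structure sheaf there. -/
theorem exists_ideal_sum_lift [IsLocallyNoetherian X] {r : ℕ} {F' : X.Modules} (ι : F' ⟶ FlatMod.freeMod X r)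
    [Mono ι] (hF' : Coh.IsCoh F') (U : X.Opens) (h : ∀ z ∈ U, Function.Surjective ((St z).map ι))
    (hfree : Coh.IsQCoh (cokernel ι)) :
    ∃ (I : X.Modules) (j : I ⟶ Coh.structureModule X) (b : (∐ fun _ : Fin r => I) ⟶ F'),
      Mono j ∧ Coh.IsCoh I ∧ Mono b ∧ b ≫ ι = Limits.Sigma.map (fun _ : Fin r => j) ∧
      ∀ z ∈ U, Function.Bijective ((St z).map j) := by
  haveI := hfree
  let c : Coh.structureModule X ⟶ ⨁ fun _ : Fin r => cokernel ι :=
    biproduct.lift fun k => Limits.Sigma.ι (fun _ : Fin r => Coh.structureModule X) k ≫ cokernel.π ι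
  haveI : Coh.IsQCoh (⨁ fun _ : Fin r => cokernel ι) := isQCoh_biproduct _ fun _ => hfree
  let I := kernel c
  let j : I ⟶ Coh.structureModule X := kernel.ι c
  have hI : Coh.IsCoh I := isCoh_kernel c (isCoh_structureModule X) ‹_›
  let m : (∐ fun _ : Fin r => I) ⟶ FlatMod.freeMod X r := Limits.Sigma.map fun _ => j
  have h0 : m ≫ cokernel.π ι = 0 := by
    refine Limits.Sigma.hom_ext _ _ fun k => ?_
    rw [comp_zero]
    simp only [m, Limits.Sigma.ι_map_assoc]
    have h1 := congrArg (fun q => q ≫ biproduct.π (fun _ : Fin r => cokernel ι) k) (kernel.condition c)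
    simp only [c, Category.assoc, biproduct.lift_π, zero_comp] at h1
    exact h1
  haveI : Mono m := inferInstance
  refine ⟨I, j, Abelian.monoLift ι m h0, inferInstance, hI,
    mono_of_mono_fac (Abelian.monoLift_comp ι m h0), Abelian.monoLift_comp ι m h0, fun z hz => ?_⟩
  refine ⟨(ModuleCat.mono_iff_injective ((St z).map j)).1 inferInstance, fun v => ?_⟩
  refine ((ShortComplex.ShortExact.moduleCat_exact_iff_function_exact _).1
    ((ShortComplex.exact_kernel c).map (St z)) v).1 ?_
  have hsub : Subsingleton ((St z).obj (⨁ fun _ : Fin r => cokernel ι)) := not_not.1 fun hne =>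
    (support_biproduct_subset (fun _ : Fin r => cokernel ι)
      (fun _ => support_cokernel_subset (T := (U : Set X)ᶜ) ι fun w hw => h w (not_not.1 hw))) hne hz
  exact hsub.elim _ _

end Groth.Agent.SubAvoid14
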