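import Groth.Agent.SubAvoid14.Extend
import Groth.Agent.Coherent.ClosedEquiv
import Groth.Agent.Coherent.AnnSheaf
import Groth.Agent.Coherent.ProperOverApps
import Groth.Agent.Coherent.SubFTCovers
import Groth.Agent.S3852
import Groth.Prelude.Def_Dual3

/-!
# The submodule `I · G` and modules killed by an ideal sheaf
-/

set_option autoImplicit false
set_option backward.isDefEq.respectTransparency false
set_option maxHeartbeats 800000

universe u

open CategoryTheory CategoryTheory.Limits AlgebraicGeometry Opposite TopologicalSpace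
open Groth.Agent.Coherent Groth.Agent.AssSch12

namespace Groth.Agent.SubAvoid14

variable {X : Scheme.{u}}

local notation "St" => DerSch.stalkFunctor X

theorem idealMulι_eq_zero (I : X.IdealSheafData) (Q : X.Modules) (hk : ClSub.KilledByIdeal I Q) :
    Dual3.idealMulι I Q = 0 := by
  have hk' : ClSub.KilledByIdeal I.subschemeι.ker Q := by
    rw [Scheme.IdealSheafData.ker_subschemeι]; exact hk
  haveI : IsIso ((Scheme.Modules.pullbackPushforwardAdjunction I.subschemeι).unit.app Q) :=
    isIso_clUnit I.subschemeι hk'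
  exact Limits.kernel.ι_of_mono _

/-- `I · G` lies in a submodule with quotient killed by `I`. -/
theorem exists_lift_idealMul (I : X.IdealSheafData) {G' G : X.Modules} (a : G' ⟶ G) [Mono a]
    (hk : ClSub.KilledByIdeal I (cokernel a)) :
    ∃ b : (Dual3.idealMul I).obj G ⟶ G', b ≫ a = Dual3.idealMulι I G := by
  have h : Dual3.idealMulι I G ≫ cokernel.π a = 0 := by
    rw [← Dual3.idealMul_map_ι, idealMulι_eq_zero I _ hk, comp_zero]
  exact ⟨Abelian.monoLift a _ h, Abelian.monoLift_comp a _ h⟩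

theorem killedByIdeal_mono {I J : X.IdealSheafData} (h : I ≤ J) {M : X.Modules}
    (hk : ClSub.KilledByIdeal J M) : ClSub.KilledByIdeal I M := fun U a ha m => hk U a (h U ha) m

/-- `I · G ⟶ G` is bijective on stalks off `V(I)`. -/
theorem bijective_stalk_idealMulι (I : X.IdealSheafData) (G : X.Modules) {z : X}
    (hz : z ∉ (I.support : Set X)) :
    Function.Bijective ((St z).map (Dual3.idealMulι I G)) := by
  let η := (Scheme.Modules.pullbackPushforwardAdjunction I.subschemeι).unit.app G
  refine ⟨(ModuleCat.mono_iff_injective ((St z).map (Dual3.idealMulι I G))).1 inferInstance,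
    fun v => ((ShortComplex.ShortExact.moduleCat_exact_iff_function_exact _).1
      ((ShortComplex.exact_kernel η).map (St z)) v).1 ?_⟩
  have h0 : Subsingleton ((St z).obj ((Coh.push I.subschemeι).obj
      ((Scheme.Modules.pullback I.subschemeι).obj G))) := by
    refine not_not.1 fun h => hz ?_
    rw [← I.range_subschemeι]
    exact support_push_subset I.subschemeι _ h
  exact h0.elim _ _

theorem support_cokernel_subset {M N : X.Modules} (φ : M ⟶ N) {T : Set X}
    (h : ∀ z, z ∉ T → Function.Surjective ((St z).map φ)) : CohB1.support (cokernel φ) ⊆ T :=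
  fun z hz => by
    by_contra hzT
    refine hz (subsingleton_of_forall_eq 0 fun a => ?_)
    obtain ⟨b, rfl⟩ := (ModuleCat.epi_iff_surjective ((St z).map (cokernel.π φ))).1 inferInstance a
    obtain ⟨c, rfl⟩ := h z hzT b
    refine (stalk_comp_apply _ _ _).trans ?_
    rw [cokernel.condition]
    exact stalk_zero_apply _

/-- A coherent module supported in `V(I)` is killed by a power of `I`. -/
theorem exists_killed_pow [IsNoetherian X] (I : X.IdealSheafData) {Q : X.Modules} (hQ : Coh.IsCoh Q)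
    (h : CohB1.support Q ⊆ (I.support : Set X)) : ∃ n : ℕ, ClSub.KilledByIdeal (I ^ (n + 1)) Q := by
  obtain ⟨n, hn⟩ := S3852.result X I (annSheaf hQ.1 hQ.2) ((support_annSheaf hQ.1 hQ.2).subset.trans h)
  exact ⟨n, killedByIdeal_mono hn (killed_annSheaf hQ.1 hQ.2)⟩

/-- Deligne's lemma: a map on the complement of `V(I)` extends to `I^n G`. -/
theorem exists_hom_idealMul [IsNoetherian X] (F G : X.Modules) (hF : Coh.IsQCoh F) (hG : Coh.IsCoh G)
    (I : X.IdealSheafData) (U : X.Opens) (hU : (U : Set X) = (I.support : Set X)ᶜ)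
    (φ : (Scheme.Modules.restrictFunctor U.ι).obj G ⟶ (Scheme.Modules.restrictFunctor U.ι).obj F) :
    ∃ (n : ℕ) (ψ : (Dual3.idealMul (I ^ n)).obj G ⟶ F),
      (Scheme.Modules.restrictFunctor U.ι).map ψ =
        (Scheme.Modules.restrictFunctor U.ι).map (Dual3.idealMulι (I ^ n) G) ≫ φ := by
  haveI := hF
  haveI := hG.1
  let R := Scheme.Modules.restrictFunctor U.ι
  have hGU : Coh.IsCoh (G.restrict U.ι) := isCoh_restrict U hG
  haveI := hGU.1
  haveI : Coh.IsQCoh (F.restrict U.ι) := inferInstanceAs (R.obj F).IsQuasicoherent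
  let e : G.restrict U.ι ⟶ Abelian.image φ := Abelian.factorThruImage φ
  haveI : Coh.IsQCoh (Abelian.image φ) := isQCoh_image φ
  haveI : Epi e := inferInstanceAs (Epi (Abelian.factorThruImage φ))
  have hIm : Coh.IsCoh (Abelian.image φ) :=
    AssSch12.isCoh_of_epi _ e (isQCoh_image φ) (locallyFinGen_of_isFT _ hGU.2)
  obtain ⟨F₀, i₀, ε, hi₀, hF₀q, hF₀ft, hε⟩ := exists_finiteType_extension_qcqs (F := F) U
    (Abelian.image.ι φ) hIm.2 (NoetherianSpace.isCompact _)
  haveI := hi₀
  obtain ⟨G', ι, φ', hι, hG', hιU, hφ'⟩ :=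
    exists_hom_extension G F₀ hG ⟨hF₀q, hF₀ft⟩ U (e ≫ ε.inv)
  haveI := hι
  haveI := hιU
  have hQ : Coh.IsCoh (cokernel ι) := isCoh_cokernel ι hG'.1 hG
  obtain ⟨n, hn⟩ := exists_killed_pow I hQ (support_cokernel_subset ι fun z hz =>
    (bijective_of_isIso_restrict ι U (show z ∈ (U : Set X) by rw [hU]; exact hz)).2)
  obtain ⟨b, hb⟩ := exists_lift_idealMul (I ^ (n + 1)) ι hn
  refine ⟨n + 1, b ≫ φ' ≫ i₀, ?_⟩
  have h1 : (e ≫ ε.inv) ≫ R.map i₀ = φ := by
    rw [Category.assoc]
    refine (congrArg (e ≫ ·) ((Iso.inv_comp_eq ε).2 hε.symm)).trans ?_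
    exact Abelian.image.fac φ
  show R.map (b ≫ φ' ≫ i₀) = R.map (Dual3.idealMulι (I ^ (n + 1)) G) ≫ φ
  rw [← hb, R.map_comp, R.map_comp, R.map_comp, Category.assoc]
  refine congrArg (R.map b ≫ ·) ?_
  refine (congrArg (· ≫ R.map i₀) hφ').trans ?_
  rw [Category.assoc]
  exact congrArg (R.map ι ≫ ·) h1

end Groth.Agent.SubAvoid14
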