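import Groth.Agent.SubAvoid14.IdealMulSec
import Groth.Agent.Coherent.QcohOps
import Mathlib.RingTheory.Filtration
import Mathlib.CategoryTheory.Subobject.Lattice

/-!
# Artin-Rees for coherent submodules, as subobjects
-/

set_option autoImplicit false
set_option backward.isDefEq.respectTransparency false
set_option maxHeartbeats 800000

universe u

open CategoryTheory CategoryTheory.Limits AlgebraicGeometry Opposite TopologicalSpace
open Groth.Agent.Coherent

namespace Groth.Agent.SubAvoid14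

variable {X : Scheme.{u}}

/-- Inclusion of a quasi-coherent submodule is checked on an affine cover. -/
theorem exists_le_of_range_le_cover {A B C : X.Modules} [Coh.IsQCoh A] (a : A ⟶ C) (b : B ⟶ C) [Mono b]
    {ι : Type*} (V : ι → X.Opens) (hV : ∀ i, IsAffineOpen (V i)) (hcov : ∀ x : X, ∃ i, x ∈ V i)
    (h : ∀ i, Set.range (a.app (V i)) ⊆ Set.range (b.app (V i))) :
    ∃ c : A ⟶ B, c ≫ b = a := by
  have h0 : a ≫ cokernel.π b = 0 := by
    refine Scheme.Modules.hom_ext _ _ fun W => ?_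
    ext x
    refine sections_ext' fun z hz => ?_
    obtain ⟨i, hzi⟩ := hcov z
    obtain ⟨f, hfW, hzf⟩ := (hV i).exists_basicOpen_le ⟨z, hz⟩ hzi
    refine ⟨X.basicOpen f, hfW, hzf, ?_⟩
    rw [← app_resM]
    obtain ⟨n, t, ht⟩ := qcoh_exists_pow_smul (hV i) A f (resM A hfW x)
    obtain ⟨y, hy⟩ := h i ⟨t, rfl⟩
    have h1 : (cokernel.π b).app (V i) (b.app (V i) y) = 0 :=
      (congrArg (fun z : B ⟶ _ => z.app (V i) y) (cokernel.condition b)).trans (by simp)
    rw [hy] at h1
    have h2 := congrArg (resM _ (X.basicOpen_le f)) h1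
    rw [map_zero, ← app_resM, ← app_resM, ht, Scheme.Modules.Hom.app_smul, Scheme.Modules.Hom.app_smul] at h2
    have hu : IsUnit (X.presheaf.map (homOfLE (X.basicOpen_le f)).op (f ^ n)) := by
      rw [map_pow]
      exact (RingedSpace.isUnit_res_basicOpen X.toLocallyRingedSpace.toRingedSpace f).pow n
    refine Eq.trans (hu.smul_eq_zero.1 h2) ((map_zero _).symm.trans (congrArg _ ?_))
    simp
  exact ⟨Abelian.monoLift b a h0, Abelian.monoLift_comp b a h0⟩

variable {F G A : X.Modules} (a : A ⟶ F) (ι : G ⟶ F) [Mono a] [Mono ι]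

/-- The intersection as a kernel. -/
noncomputable abbrev interι : kernel (a ≫ cokernel.π ι) ⟶ F := kernel.ι (a ≫ cokernel.π ι) ≫ a

theorem inf_eq : Subobject.mk a ⊓ Subobject.mk ι = Subobject.mk (interι a ι) := by
  refine le_antisymm ?_ (le_inf ?_ ?_)
  · let S := Subobject.mk a ⊓ Subobject.mk ι
    let p := Subobject.ofLEMk S a inf_le_left
    let q := Subobject.ofLEMk S ι inf_le_right
    refine Subobject.le_mk_of_comm (kernel.lift (a ≫ cokernel.π ι) p ?_) ?_
    · rw [← Category.assoc, Subobject.ofLEMk_comp, ← Subobject.ofLEMk_comp (f := ι) inf_le_right,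
        Category.assoc, cokernel.condition, comp_zero]
    · rw [kernel.lift_ι_assoc]
      exact Subobject.ofLEMk_comp _
  · exact Subobject.mk_le_mk_of_comm (kernel.ι _) rfl
  · refine Subobject.mk_le_mk_of_comm (Abelian.monoLift ι (interι a ι) ?_) (Abelian.monoLift_comp ι _ _)
    rw [Category.assoc, kernel.condition]

theorem range_interι (U : X.Opens) :
    Set.range ((interι a ι).app U) = Set.range (a.app U) ∩ Set.range (ι.app U) := by
  ext m
  constructor
  · rintro ⟨k, rfl⟩
    have h : interι a ι ≫ cokernel.π ι = 0 := by rw [Category.assoc, kernel.condition]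
    exact ⟨⟨(kernel.ι (a ≫ cokernel.π ι)).app U k, rfl⟩,
      ⟨(Abelian.monoLift ι _ h).app U k,
        congrArg (fun z : kernel (a ≫ cokernel.π ι) ⟶ F => z.app U k) (Abelian.monoLift_comp ι _ h)⟩⟩
  · rintro ⟨⟨x, rfl⟩, ⟨y, hy⟩⟩
    obtain ⟨k, hk⟩ := kernel_sections_exact (a ≫ cokernel.π ι) x (by
      show (cokernel.π ι).app U (a.app U x) = 0
      rw [← hy]
      exact (congrArg (fun z : G ⟶ _ => z.app U y) (cokernel.condition ι)).trans (by simp))
    exact ⟨k, congrArg (a.app U) hk⟩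

theorem range_arrow {S : Subobject F} {K : X.Modules} (κ : K ⟶ F) [Mono κ] (h : S = Subobject.mk κ)
    (U : X.Opens) : Set.range (S.arrow.app U) = Set.range (κ.app U) := by
  subst h
  refine Set.Subset.antisymm ?_ ?_
  · rintro _ ⟨x, rfl⟩
    exact ⟨(Subobject.underlyingIso κ).hom.app U x, congrArg (fun z : (Subobject.mk κ : X.Modules) ⟶ F => z.app U x)
      (Subobject.underlyingIso_hom_comp_eq_mk κ)⟩
  · rintro _ ⟨x, rfl⟩
    exact ⟨(Subobject.underlyingIso κ).inv.app U x, congrArg (fun z : K ⟶ F => z.app U x)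
      (Subobject.underlyingIso_arrow κ)⟩

theorem isQCoh_idealMul (I : X.IdealSheafData) (M : X.Modules) [hM : Coh.IsQCoh M] :
    Coh.IsQCoh ((Dual3.idealMul I).obj M) := by
  haveI := EGA43.InjFibre.isQCoh_pullback I.subschemeι M
  haveI := Coherent.isQCoh_push I.subschemeι ((Scheme.Modules.pullback I.subschemeι).obj M)
  haveI : Coh.IsQCoh ((𝟭 X.Modules).obj M) := hM
  haveI : Coh.IsQCoh ((Scheme.Modules.pullback I.subschemeι ⋙ Scheme.Modules.pushforward I.subschemeι).obj M) :=
    ‹Coh.IsQCoh ((Coh.push I.subschemeι).obj ((Scheme.Modules.pullback I.subschemeι).obj M))›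
  exact isQCoh_kernel _

/-- Artin–Rees. -/
theorem artinRees [IsNoetherian X] (hF : Coh.IsCoh F) (hG : Coh.IsQCoh G) (I : X.IdealSheafData) :
    ∃ c : ℕ, ∀ n : ℕ, c ≤ n →
      Subobject.mk (Dual3.idealMulι (I ^ (n - c))
          (Subobject.underlying.obj (Subobject.mk (Dual3.idealMulι (I ^ c) F) ⊓ Subobject.mk ι)) ≫
        (Subobject.mk (Dual3.idealMulι (I ^ c) F) ⊓ Subobject.mk ι).arrow) =
      Subobject.mk (Dual3.idealMulι (I ^ n) F) ⊓ Subobject.mk ι := by
  classical
  haveI := hF.1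
  haveI := hG
  obtain ⟨t, ht, hcov⟩ := isCompact_iff_finite_and_eq_biUnion_affineOpens.1
    (show IsCompact ((⊤ : X.Opens) : Set X) from isCompact_univ)
  haveI := ht.fintype
  have hAR : ∀ V : t, ∃ k : ℕ, ∀ n ≥ k, (I.ideal V.1) ^ n • ⊤ ⊓ LinearMap.range (appLin ι V.1.1) =
      (I.ideal V.1) ^ (n - k) • ((I.ideal V.1) ^ k • ⊤ ⊓ LinearMap.range (appLin ι V.1.1)) := fun V => by
    haveI : IsNoetherianRing Γ(X, V.1.1) := IsLocallyNoetherian.component_noetherian V.1
    haveI := ((isCoh_iff_finite_sections F).1 hF).2 V.1.1 V.1.2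
    exact Ideal.exists_pow_inf_eq_pow_smul _ _
  choose k hk using hAR
  let c := Finset.univ.sup k
  refine ⟨c, fun n hn => ?_⟩
  have hκq : ∀ m : ℕ, Coh.IsQCoh (kernel (Dual3.idealMulι (I ^ m) F ≫ cokernel.π ι)) := fun m =>
    haveI := isQCoh_idealMul (I ^ m) F
    haveI := isQCoh_cokernel ι
    isQCoh_kernel _
  haveI := hκq n
  let S := Subobject.mk (Dual3.idealMulι (I ^ c) F) ⊓ Subobject.mk ι
  haveI : Coh.IsQCoh (Subobject.underlying.obj S) :=
    haveI := hκq c
    isQCoh_of_iso ((Subobject.isoOfEq _ _ (inf_eq (Dual3.idealMulι (I ^ c) F) ι)) ≪≫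
      Subobject.underlyingIso _).symm
  haveI := isQCoh_idealMul (I ^ (n - c)) (Subobject.underlying.obj S)
  let L := Dual3.idealMulι (I ^ (n - c)) (Subobject.underlying.obj S) ≫ S.arrow
  let R := interι (Dual3.idealMulι (I ^ n) F) ι
  have hR : ∀ (V : X.Opens) (hV : IsAffineOpen V), Set.range (R.app V) =
      ((I.ideal ⟨V, hV⟩ ^ n • ⊤ ⊓ LinearMap.range (appLin ι V) : Submodule Γ(X, V) Γ(F, V)) : Set Γ(F, V)) :=
    fun V hV => by
      rw [range_interι]
      ext m
      refine and_congr ((mem_range_idealMulι_iff (I ^ n) F hV m).trans ?_) Iff.rfl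
      simp
  have hL : ∀ (V : X.Opens) (hV : IsAffineOpen V), Set.range (L.app V) =
      ((I.ideal ⟨V, hV⟩ ^ (n - c) • (I.ideal ⟨V, hV⟩ ^ c • ⊤ ⊓ LinearMap.range (appLin ι V)) :
        Submodule Γ(X, V) Γ(F, V)) : Set Γ(F, V)) := fun V hV => by
    have h1 : LinearMap.range (appLin S.arrow V) =
        (I.ideal ⟨V, hV⟩ ^ c • ⊤ ⊓ LinearMap.range (appLin ι V)) := SetLike.ext' (by
      show Set.range (S.arrow.app V) = _
      rw [range_arrow _ (inf_eq (Dual3.idealMulι (I ^ c) F) ι), range_interι]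
      ext m
      refine and_congr ((mem_range_idealMulι_iff (I ^ c) F hV m).trans ?_) Iff.rfl
      simp)
    rw [← h1, LinearMap.range_eq_map, ← Submodule.map_smul'']
    ext m
    constructor
    · rintro ⟨x, rfl⟩
      have hx := (mem_range_idealMulι_iff (I ^ (n - c)) _ hV
        ((Dual3.idealMulι (I ^ (n - c)) (Subobject.underlying.obj S)).app V x)).1 ⟨x, rfl⟩
      refine ⟨_, ?_, rfl⟩
      rw [Scheme.IdealSheafData.ideal_pow, Pi.pow_apply] at hx
      exact hx
    · rintro ⟨x, hx, rfl⟩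
      obtain ⟨y, hy⟩ := (mem_range_idealMulι_iff (I ^ (n - c)) (Subobject.underlying.obj S) hV x).2
        (by simpa using hx)
      exact ⟨y, congrArg (S.arrow.app V) hy⟩
  obtain ⟨u, hu⟩ := exists_le_of_range_le L R fun V hV => by
    rw [hR V hV, hL V hV]
    refine le_inf ?_ ?_
    · refine (Submodule.smul_mono le_rfl inf_le_left).trans ?_
      rw [← Submodule.mul_smul, ← pow_add, Nat.sub_add_cancel hn]
    · exact (Submodule.smul_mono le_rfl inf_le_right).trans Submodule.smul_le_right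
  obtain ⟨v, hv⟩ := exists_le_of_range_le_cover R L (fun V : t => V.1.1) (fun V => V.1.2) (fun x => by
    have hx : x ∈ ((⊤ : X.Opens) : Set X) := trivial
    rw [hcov] at hx
    simpa using hx) fun V => by
    rw [hR _ V.1.2, hL _ V.1.2]
    show (I.ideal V.1 ^ n • ⊤ ⊓ LinearMap.range (appLin ι V.1.1)) ≤
      I.ideal V.1 ^ (n - c) • (I.ideal V.1 ^ c • ⊤ ⊓ LinearMap.range (appLin ι V.1.1))
    have hkc : k V ≤ c := Finset.le_sup (Finset.mem_univ V)
    rw [hk V n (hkc.trans hn), show n - k V = (n - c) + (c - k V) by omega, pow_add, Submodule.mul_smul]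
    refine Submodule.smul_mono le_rfl ?_
    rw [← hk V c hkc]
  haveI : Mono L := mono_comp _ _
  rw [inf_eq (Dual3.idealMulι (I ^ n) F) ι]
  exact le_antisymm (Subobject.mk_le_mk_of_comm u hu) (Subobject.mk_le_mk_of_comm v hv)

end Groth.Agent.SubAvoid14
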