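import Groth.Agent.SubAvoid14.IdealMul
import Groth.Agent.Coherent.PullUnit
import Mathlib.LinearAlgebra.TensorProduct.Quotient

/-!
# Sections of `I · G` over affine opens
-/

set_option autoImplicit false
set_option backward.isDefEq.respectTransparency false
set_option maxHeartbeats 800000

universe u

open CategoryTheory CategoryTheory.Limits AlgebraicGeometry Opposite TopologicalSpace
open Groth.Agent.Coherent Groth.Agent.AssSch12 Groth.Agent.EGA43.InjFibre
open scoped TensorProduct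

namespace Groth.Agent.SubAvoid14

variable {X : Scheme.{u}}

/-- The kernel of a base change along a surjection. -/
theorem ker_of_isBaseChange_surjective {A B M N : Type u} [CommRing A] [CommRing B] [Algebra A B]
    [AddCommGroup M] [Module A M] [AddCommGroup N] [Module A N] [Module B N] [IsScalarTower A B N]
    {μ : M →ₗ[A] N} (hμ : IsBaseChange B μ) (hs : Function.Surjective (algebraMap A B)) (m : M) :
    μ m = 0 ↔ m ∈ RingHom.ker (algebraMap A B) • (⊤ : Submodule A M) := by
  constructor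
  · intro h
    have h1 : (1 : B) ⊗ₜ[A] m = 0 := hμ.equiv.injective (by
      rw [hμ.equiv_tmul, one_smul, h, map_zero])
    let e : B ≃ₗ[A] (A ⧸ RingHom.ker (algebraMap A B)) :=
      ((Algebra.linearMap A B).quotKerEquivOfSurjective hs).symm
    have he : e 1 = 1 := by
      rw [LinearEquiv.symm_apply_eq]
      exact (map_one (algebraMap A B)).symm
    have h2 := congrArg (fun z => TensorProduct.quotTensorEquivQuotSMul M (RingHom.ker (algebraMap A B))
      (e.toLinearMap.rTensor M z)) h1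
    simp only [LinearMap.rTensor_tmul, LinearEquiv.coe_coe, he, map_zero] at h2
    rw [TensorProduct.quotTensorEquivQuotSMul_mk_one_tmul] at h2
    exact (Submodule.Quotient.mk_eq_zero _).1 h2
  · intro h
    refine Submodule.smul_induction_on (p := fun z => μ z = 0) h (fun r hr n _ => ?_) fun a b ha hb => ?_
    · rw [map_smul, ← algebraMap_smul B r, RingHom.mem_ker.1 hr, zero_smul]
    · rw [map_add, ha, hb, add_zero]

theorem mem_range_idealMulι_iff (I : X.IdealSheafData) (G : X.Modules) [Coh.IsQCoh G] {U : X.Opens}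
    (hU : IsAffineOpen U) (m : Γ(G, U)) :
    m ∈ Set.range ((Dual3.idealMulι I G).app U) ↔ m ∈ I.ideal ⟨U, hU⟩ • (⊤ : Submodule Γ(X, U) Γ(G, U)) := by
  let i := I.subschemeι
  let η := (Scheme.Modules.pullbackPushforwardAdjunction i).unit.app G
  have h0 : m ∈ Set.range ((Dual3.idealMulι I G).app U) ↔ η.app U m = 0 := by
    refine ⟨?_, fun h => kernel_sections_exact η m h⟩
    rintro ⟨a, rfl⟩
    exact (congrArg (fun z : kernel η ⟶ _ => z.app U a) (kernel.condition η)).trans (by simp)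
  rw [h0]
  have hU' : IsAffineOpen (i ⁻¹ᵁ U) := hU.preimage i
  letI := (i.appLE U (i ⁻¹ᵁ U) le_rfl).hom.toAlgebra
  letI := Module.compHom Γ((Scheme.Modules.pullback i).obj G, i ⁻¹ᵁ U) (i.appLE U (i ⁻¹ᵁ U) le_rfl).hom
  haveI : IsScalarTower Γ(X, U) Γ(I.subscheme, i ⁻¹ᵁ U) Γ((Scheme.Modules.pullback i).obj G, i ⁻¹ᵁ U) :=
    IsScalarTower.of_algebraMap_smul fun _ _ => rfl
  obtain ⟨μ, hμ, hμm⟩ := pullMap_isBaseChange i hU hU' le_rfl G
  have hη : η.app U m = μ m := by
    rw [hμm, pullMap_eq_resM_pullSec, resM_refl]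
    rfl
  have hs : Function.Surjective (algebraMap Γ(X, U) Γ(I.subscheme, i ⁻¹ᵁ U)) := by
    intro z
    obtain ⟨r, hr⟩ := i.app_surjective U hU z
    refine ⟨r, ?_⟩
    show i.appLE U (i ⁻¹ᵁ U) le_rfl r = z
    rw [← Scheme.Hom.app_eq_appLE]
    exact hr
  have hk : RingHom.ker (algebraMap Γ(X, U) Γ(I.subscheme, i ⁻¹ᵁ U)) = I.ideal ⟨U, hU⟩ := by
    show RingHom.ker (i.appLE U (i ⁻¹ᵁ U) le_rfl).hom = _
    rw [← Scheme.Hom.app_eq_appLE]
    conv_rhs => rw [← I.ker_subschemeι]
    rw [Scheme.Hom.ker_apply]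
  rw [← hk]
  exact ⟨fun h => (ker_of_isBaseChange_surjective hμ hs m).1 (hη.symm.trans h),
    fun h => hη.trans ((ker_of_isBaseChange_surjective hμ hs m).2 h)⟩

end Groth.Agent.SubAvoid14

namespace Groth.Agent.SubAvoid14

variable {X : Scheme.{u}}

theorem sections_ext' {N : X.Modules} {W : X.Opens} {b b' : Γ(N, W)}
    (h : ∀ x ∈ W, ∃ (V : X.Opens) (hV : V ≤ W), x ∈ V ∧ resM N hV b = resM N hV b') : b = b' := by
  choose V hV hx e using h
  exact TopCat.Sheaf.eq_of_locally_eq' (⟨N.presheaf, N.isSheaf⟩ : TopCat.Sheaf Ab X)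
    (fun x : (W : Set X) => V x.1 x.2) W (fun x => homOfLE (hV x.1 x.2))
    (fun x hx' => Opens.mem_iSup.2 ⟨⟨x, hx'⟩, hx x hx'⟩) b b' fun x => e x.1 x.2

/-- Two submodules with the same sections on affine opens agree. -/
theorem exists_le_of_range_le {A B C : X.Modules} (a : A ⟶ C) (b : B ⟶ C) [Mono b]
    (h : ∀ U : X.Opens, IsAffineOpen U → Set.range (a.app U) ⊆ Set.range (b.app U)) :
    ∃ c : A ⟶ B, c ≫ b = a := by
  have h0 : a ≫ cokernel.π b = 0 := by
    refine Scheme.Modules.hom_ext _ _ fun W => ?_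
    ext x
    refine sections_ext' fun z hz => ?_
    obtain ⟨V, hV, hzV, hVW⟩ := Opens.isBasis_iff_nbhd.mp X.isBasis_affineOpens hz
    refine ⟨V, hVW, hzV, ?_⟩
    rw [← app_resM]
    obtain ⟨y, hy⟩ := h V hV ⟨resM A hVW x, rfl⟩
    have h1 : (cokernel.π b).app V (b.app V y) = 0 :=
      (congrArg (fun z : B ⟶ _ => z.app V y) (cokernel.condition b)).trans (by simp)
    rw [hy] at h1
    refine Eq.trans h1 ((map_zero _).symm.trans (congrArg _ ?_))
    simp
  exact ⟨Abelian.monoLift b a h0, Abelian.monoLift_comp b a h0⟩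

end Groth.Agent.SubAvoid14
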