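import Groth.Agent.SubAvoid14.IdealMul
import Groth.Agent.Coherent.DevissageMain

/-!
# Roofs of monomorphisms between coherent modules with the same stalk of finite length
-/

set_option autoImplicit false
set_option backward.isDefEq.respectTransparency false
set_option maxHeartbeats 800000

universe u

open CategoryTheory CategoryTheory.Limits AlgebraicGeometry Opposite TopologicalSpace
open Groth.Agent.Coherent Groth.Agent.AssSch12 Groth.Agent.ModStalk

namespace Groth.Agent.SubAvoid14

variable {X : Scheme.{u}} [IsLocallyNoetherian X]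

local notation "St" => DerSch.stalkFunctor X

/-- A map injective on stalks off `T` is a monomorphism on the avoiding submodule. -/
theorem mono_avoidι_comp {E F : X.Modules} (hE : Coh.IsCoh E) (T : Set X) (p : E ⟶ F)
    (h : ∀ z, z ∉ T → Function.Injective ((St z).map p)) : Mono (avoidι E hE T ≫ p) :=
  Preadditive.mono_of_cancel_zero _ fun {P} t ht => eq_zero_of_stalk E hE T t fun z hz w => by
    apply (ModuleCat.mono_iff_injective ((St z).map (avoidι E hE T))).1 inferInstance
    rw [map_zero]
    apply h z hz
    rw [map_zero, stalk_comp_apply, stalk_comp_apply, ht]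
    exact stalk_zero_apply w

/-- Two coherent modules with isomorphic stalks of finite length at `y` contain a common submodule
equal to both at `y`. -/
theorem exists_roof {y : X} {F G : X.Modules} (hF : Coh.IsCoh F) (hG : Coh.IsCoh G)
    (e : (St y).obj F ≅ (St y).obj G) {k : ℕ} (hk : Killed y k G) :
    ∃ (E : X.Modules) (a : E ⟶ F) (b : E ⟶ G), Coh.IsCoh E ∧ Mono a ∧ Mono b ∧
      Function.Bijective ((St y).map a) ∧ Function.Bijective ((St y).map b) := by
  have := hF.1
  have := hG.1
  have hA : Coh.IsQCoh ((sky y).obj ((St y).obj G)) := isQCoh_sky_of_killed y k hk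
  let a := skyMap y e.hom
  let b := skyMap y (𝟙 ((St y).obj G))
  let S : ShortComplex X.Modules := ShortComplex.mk (biprod.inl : F ⟶ F ⊞ G) biprod.snd (by simp)
  have hS := (ShortComplex.Splitting.ofHasBinaryBiproduct F G).shortExact
  have hP : Coh.IsCoh (F ⊞ G) := isCoh_X₂ hS hF hG
  let d : F ⊞ G ⟶ (sky y).obj ((St y).obj G) := biprod.desc a (-b)
  have := hP.1
  have hq : Coh.IsQCoh (kernel d) := isQCoh_kernel d
  have hE : Coh.IsCoh (kernel d) := isCoh_of_mono (kernel.ι d) hP hq
  let T : ShortComplex X.Modules := ShortComplex.mk (kernel.ι d) d (kernel.condition d)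
  have hT : T.Exact := ShortComplex.exact_kernel d
  have hTy := (ShortComplex.ShortExact.moduleCat_exact_iff_function_exact _).1 (hT.map (St y))
  have hdec : ∀ p : (St y).obj (F ⊞ G), (St y).map d p =
      (St y).map a ((St y).map biprod.fst p) - (St y).map b ((St y).map biprod.snd p) := fun p => by
    have : d = biprod.fst ≫ a - biprod.snd ≫ b := by
      apply biprod.hom_ext' <;> simp [d]
    rw [this, Functor.map_sub, Functor.map_comp, Functor.map_comp]
    rfl
  have hpair : ∀ (u : (St y).obj F) (v : (St y).obj G), e.hom u = v →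
      ∃ w, (St y).map (kernel.ι d ≫ biprod.fst) w = u ∧
        (St y).map (kernel.ι d ≫ biprod.snd) w = v := fun u v huv => by
    let p := (St y).map (biprod.inl : F ⟶ F ⊞ G) u + (St y).map (biprod.inr : G ⟶ F ⊞ G) v
    have h1 : (St y).map (biprod.fst : F ⊞ G ⟶ F) p = u := by
      simp only [p, map_add]
      rw [stalk_comp_apply, stalk_comp_apply, biprod.inl_fst, biprod.inr_fst, stalk_id_apply,
        stalk_zero_apply, add_zero]
    have h2 : (St y).map (biprod.snd : F ⊞ G ⟶ G) p = v := by
      simp only [p, map_add]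
      rw [stalk_comp_apply, stalk_comp_apply, biprod.inl_snd, biprod.inr_snd, stalk_id_apply,
        stalk_zero_apply, zero_add]
    obtain ⟨w, hw⟩ := (hTy p).1 (by
      refine (hdec p).trans ?_
      rw [h1, h2]
      exact sub_eq_zero.2 ((stalk_skyMap_eq_iff y e.hom (𝟙 _) u v).2 huv))
    exact ⟨w, by rw [Functor.map_comp]; exact (congrArg _ hw).trans h1,
      by rw [Functor.map_comp]; exact (congrArg _ hw).trans h2⟩
  have hsplit : ∀ w : (St y).obj (kernel d),
      e.hom ((St y).map (kernel.ι d ≫ biprod.fst) w) =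
        (St y).map (kernel.ι d ≫ biprod.snd) w := fun w => by
    refine (stalk_skyMap_eq_iff y e.hom (𝟙 _) _ _).1 (sub_eq_zero.1 ?_)
    rw [Functor.map_comp, Functor.map_comp]
    exact (hdec _).symm.trans (hTy.apply_apply_eq_zero w)
  have hzero : ∀ w : (St y).obj (kernel d), (St y).map (kernel.ι d ≫ biprod.fst) w = 0 →
      w = 0 := fun w h => by
    have h' : (St y).map (kernel.ι d ≫ biprod.snd) w = 0 := by rw [← hsplit, h, map_zero]
    rw [Functor.map_comp] at h h'
    apply (ModuleCat.mono_iff_injective ((St y).map (kernel.ι d))).1 inferInstance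
    rw [map_zero]
    have htot : biprod.fst ≫ biprod.inl + biprod.snd ≫ biprod.inr = 𝟙 (F ⊞ G) := biprod.total
    set p := (St y).map (kernel.ι d) w
    rw [← stalk_id_apply _ p, ← htot, stalk_add_apply, ← stalk_comp_apply, ← stalk_comp_apply]
    have h1 : (St y).map (biprod.fst : F ⊞ G ⟶ F) p = 0 := h
    have h2 : (St y).map (biprod.snd : F ⊞ G ⟶ G) p = 0 := h'
    rw [h1, h2, map_zero, map_zero, add_zero]
  have hf : Function.Bijective ((St y).map (kernel.ι d ≫ biprod.fst)) :=
    ⟨(injective_iff_map_eq_zero _).2 hzero, fun u => (hpair u _ rfl).imp fun _ h => h.1⟩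
  have hg : Function.Bijective ((St y).map (kernel.ι d ≫ biprod.snd)) :=
    ⟨(injective_iff_map_eq_zero _).2 fun w h => hzero w (e.toLinearEquiv.injective (by
      exact ((hsplit w).trans h).trans (map_zero _).symm)),
      fun v => (hpair (e.inv v) v (by simp)).imp fun _ h => h.2⟩
  let p := kernel.ι d ≫ biprod.fst
  let q := kernel.ι d ≫ biprod.snd
  have hKp : Coh.IsCoh (kernel p) := isCoh_kernel p hE hF.1
  have hKq : Coh.IsCoh (kernel q) := isCoh_kernel q hE hG.1
  let T : Set X := CohB1.support (kernel p) ∪ CohB1.support (kernel q)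
  have hTc : IsClosed T :=
    (isClosed_support _ (locallyFinGen_of_isFT _ hKp.2)).union (isClosed_support _ (locallyFinGen_of_isFT _ hKq.2))
  have hinj : ∀ {A B : X.Modules} (c : A ⟶ B) (z : X), z ∉ CohB1.support (kernel c) →
      Function.Injective ((St z).map c) := fun {A B} c z hz =>
    (injective_iff_map_eq_zero ((St z).map c).hom).2 fun v hv => by
      obtain ⟨w, rfl⟩ := (((ShortComplex.ShortExact.moduleCat_exact_iff_function_exact _).1
        ((ShortComplex.exact_kernel c).map (St z))) v).1 hv
      rw [show w = 0 from (not_not.1 hz : Subsingleton ((kernel c).presheaf.stalk z)).elim _ _]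
      exact map_zero _
  have hker : ∀ {B : X.Modules} (c : kernel d ⟶ B), Function.Injective ((St y).map c) →
      y ∉ CohB1.support (kernel c) := fun {B} c hc h => h (subsingleton_of_forall_eq 0 fun v => by
    apply (ModuleCat.mono_iff_injective ((St y).map (kernel.ι c))).1 inferInstance
    apply hc
    rw [stalk_comp_apply, kernel.condition]
    exact (stalk_zero_apply v).trans (by simp))
  have hy : y ∉ T := fun h => h.elim (hker p hf.1) (hker q hg.1)
  have hN := bijective_stalk_avoidι (kernel d) hE T hTc hy
  refine ⟨avoidMod (kernel d) hE T, avoidι (kernel d) hE T ≫ p, avoidι (kernel d) hE T ≫ q,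
    isCoh_avoidMod _ hE T, mono_avoidι_comp hE T p fun z hz => hinj p z fun h => hz (Or.inl h),
    mono_avoidι_comp hE T q fun z hz => hinj q z fun h => hz (Or.inr h), ?_, ?_⟩
  · have h := hf.comp hN
    rwa [show ⇑((St y).map p) ∘ ⇑((St y).map (avoidι (kernel d) hE T)) =
      ⇑((St y).map (avoidι (kernel d) hE T ≫ p)) from funext fun _ => stalk_comp_apply _ _ _] at h
  · have h := hg.comp hN
    rwa [show ⇑((St y).map q) ∘ ⇑((St y).map (avoidι (kernel d) hE T)) =
      ⇑((St y).map (avoidι (kernel d) hE T ≫ q)) from funext fun _ => stalk_comp_apply _ _ _] at h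

theorem notMem_support_cokernel {y : X} {M N : X.Modules} (φ : M ⟶ N)
    (h : Function.Surjective ((St y).map φ)) : y ∉ CohB1.support (cokernel φ) := fun hy =>
  support_cokernel_subset (T := {y}ᶜ) φ (fun z hz => by
    obtain rfl := Set.mem_singleton_iff.1 (not_not.1 hz)
    exact h) hy rfl

attribute [local instance] hasFiniteBiproducts in
/-- A nonzero stalk killed by the maximal ideal is that of a power of any module with stalk `κ(y)`. -/
theorem exists_biproduct_stalk_iso {y : X} {C G : X.Modules} (hG : Coh.IsCoh G) (hk : Killed y 1 G)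
    (hy : y ∈ CohB1.support G) (e : (St y).obj C ≅ resMod y) :
    ∃ n : ℕ, Nonempty ((St y).obj (⨁ fun _ : Fin (n + 1) => C) ≅ (St y).obj G) := by
  have := finite_stalk hG y
  obtain ⟨n, ⟨eG⟩⟩ := exists_equiv_fin (R := X.presheaf.stalk y) (M := G.presheaf.stalk y)
    fun r hr a => hk r (by rwa [pow_one]) a
  rcases n with _ | n
  · exact absurd (eG.toEquiv.subsingleton) hy
  haveI : PreservesBinaryBiproducts (St y) := preservesBinaryBiproducts_of_preservesBinaryCoproducts _
  have : (St y).Additive := Functor.additive_of_preservesBinaryBiproducts _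
  exact ⟨n, ⟨(St y).mapBiproduct (fun _ : Fin (n + 1) => C) ≪≫ biproduct.mapIso (fun _ => e) ≪≫
    ModuleCat.biproductIsoPi (fun _ : Fin (n + 1) => resMod y) ≪≫
    (eG.symm.toModuleIso : ModuleCat.of _ (Fin (n + 1) → resMod y) ≅ (St y).obj G)⟩⟩

/-- A submodule in the class, equal to the module at the point, puts the module in the class. -/
theorem mem_of_mono_stalk {K : X.Modules → Prop} (hK : ExtClass K) {y : X} {Z : Set X}
    (hsm : SmallerIn K y Z) {E F : X.Modules} (a : E ⟶ F) [Mono a] (hE : Coh.IsCoh E) (hF : Coh.IsCoh F)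
    (hFZ : CohB1.support F ⊆ Z) (ha : Function.Surjective ((St y).map a)) (hKE : K E) : K F := by
  have hQ : Coh.IsCoh (cokernel a) := isCoh_cokernel a hE.1 hF
  exact hK.ext (ShortComplex.mk a (cokernel.π a) (cokernel.condition a))
    { exact := ShortComplex.exact_cokernel a } hE hF hQ hKE
    (hsm _ hQ ((support_subset_of_epi (cokernel.π a)).trans hFZ) (notMem_support_cokernel a ha))

end Groth.Agent.SubAvoid14
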