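import Groth.Agent.Coherent.Devissage
import Groth.Agent.Coherent.SubFTMod
import Groth.Agent.Coherent.MonoCoh
import Groth.Agent.AssSch12.Primary
import Groth.Agent.AssSch12.Push
import Groth.Agent.ZClosLib.Criterion

/-!
# A coherent submodule avoiding a closed set

For coherent `G` and a set `T`, the sections which vanish in the coprimary quotients at the associated points
lying in `T` form a coherent submodule `avoid G T` which agrees with `G` off `T` (for closed `T`) and has no
associated point in `T`.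
-/

set_option autoImplicit false
set_option backward.isDefEq.respectTransparency false
set_option maxHeartbeats 800000

universe u

open CategoryTheory CategoryTheory.Limits AlgebraicGeometry Opposite TopologicalSpace
open Groth.Agent.Coherent Groth.Agent.AssSch12

namespace Groth.Agent.SubAvoid14

variable {X : Scheme.{u}} [IsLocallyNoetherian X] (G : X.Modules) (hG : Coh.IsCoh G) (T : Set X)

theorem sections_eq_of_locally {N : X.Modules} {W : X.Opens} {b b' : Γ(N, W)}
    (h : ∀ x ∈ W, ∃ (V : X.Opens) (hV : V ≤ W), x ∈ V ∧ resM N hV b = resM N hV b') : b = b' := by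
  choose V hV hx e using h
  exact TopCat.Sheaf.eq_of_locally_eq' (⟨N.presheaf, N.isSheaf⟩ : TopCat.Sheaf Ab X)
    (fun x : (W : Set X) => V x.1 x.2) W (fun x => homOfLE (hV x.1 x.2))
    (fun x hx' => Opens.mem_iSup.2 ⟨⟨x, hx'⟩, hx x hx'⟩) b b' fun x => e x.1 x.2

/-- Associated points in an affine open form a finite set. -/
theorem finite_ass_inter {G : X.Modules} (hG : Coh.IsCoh G) {V : X.Opens} (hV : IsAffineOpen V) :
    (AssSch.Ass G ∩ (V : Set X)).Finite := by
  haveI := hG.1
  haveI := isNoetherianRing_of_isAffineOpen hV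
  haveI := ((Coherent.isCoh_iff_finite_sections G).1 hG).2 V hV
  classical
  refine Set.Finite.of_injOn (f := fun y => if h : y ∈ V then primeAt hV h else ⊥)
    (fun y hy => ?_) (fun a ha b hb e => ?_) (associatedPrimes.finite Γ(X, V) Γ(G, V))
  · dsimp only
    rw [dif_pos (show y ∈ V from hy.2)]
    exact (mem_ass_iff hV hy.2 G).1 hy.1
  · dsimp only at e
    rw [dif_pos (show a ∈ V from ha.2), dif_pos (show b ∈ V from hb.2)] at e
    exact (((specializes_iff hV ha.2 hb.2).2 e.le).antisymm ((specializes_iff hV hb.2 ha.2).2 e.ge)).eq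

/-- The sections vanishing in the coprimary quotients at associated points in `T`. -/
noncomputable def avoid : SubM G where
  carrier W :=
    { carrier := {s | ∀ y, y ∈ AssSch.Ass G → y ∈ T → (primπ y G hG).app W s = 0}
      zero_mem' := fun y _ _ => map_zero _
      add_mem' := fun {a b} ha hb y h1 h2 => by rw [map_add, ha y h1 h2, hb y h1 h2, add_zero]
      smul_mem' := fun c a ha y h1 h2 => by
        rw [Scheme.Modules.Hom.app_smul, ha y h1 h2, smul_zero] }
  res {W W'} h {a} ha y h1 h2 := by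
    rw [app_resM, ha y h1 h2, map_zero]
  of_local {W} a ha y h1 h2 := sections_eq_of_locally fun x hx => by
    obtain ⟨W', h, hx', hm⟩ := ha x hx
    refine ⟨W', h, hx', ?_⟩
    rw [← app_resM, hm y h1 h2, map_zero]

/-- The module. -/
noncomputable abbrev avoidMod : X.Modules := (avoid G hG T).toMod

/-- The inclusion. -/
noncomputable abbrev avoidι : avoidMod G hG T ⟶ G := (avoid G hG T).toι

theorem mem_avoid_iff {W : X.Opens} (s : Γ(G, W)) : s ∈ (avoid G hG T).carrier W ↔
    ∀ y, y ∈ AssSch.Ass G → y ∈ T → ∀ h : y ∈ W, G.presheaf.germ W y h s ∈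
      (IsLocalRing.maximalIdeal (X.presheaf.stalk y)) ^ expo y G hG •
        (⊤ : Submodule (X.presheaf.stalk y) (G.presheaf.stalk y)) := by
  refine ⟨fun hs y h1 h2 => ?_, fun hs y h1 h2 => ?_⟩
  · exact (primMap_app_eq_zero_iff y G hG W s).1 ((primπ_app_eq_zero_iff y G hG W s).1 (hs y h1 h2))
  · exact (primπ_app_eq_zero_iff y G hG W s).2 ((primMap_app_eq_zero_iff y G hG W s).2 (hs y h1 h2))

theorem isQCoh_avoidMod : Coh.IsQCoh (avoidMod G hG T) := by
  haveI := hG.1
  refine (isQCoh_iff_localizesOn _).2 fun V hV => ⟨fun f a => ?_, fun f a ha => ?_⟩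
  · obtain ⟨n, t, ht⟩ := qcoh_exists_pow_smul hV G f ((avoidι G hG T).app _ a)
    let S := (finite_ass_inter hG hV).toFinset
    let K := S.sup fun y => expo y G hG
    have hmem : f ^ K • t ∈ (avoid G hG T).carrier V := by
      rw [mem_avoid_iff]
      intro y h1 h2 hy
      rw [QCohLoc.germ_smul']
      by_cases hf : y ∈ X.basicOpen f
      · refine Submodule.smul_mem _ _ ?_
        rw [← TopCat.Presheaf.germ_res_apply G.presheaf (homOfLE (X.basicOpen_le f)) y hf t]
        change G.presheaf.germ _ y hf (resM G (X.basicOpen_le f) t) ∈ _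
        rw [ht, QCohLoc.germ_smul']
        exact Submodule.smul_mem _ _ ((mem_avoid_iff G hG T _).1 a.2 y h1 h2 hf)
      · refine Submodule.smul_mem_smul ?_ trivial
        rw [map_pow]
        exact Ideal.pow_le_pow_right
          (Finset.le_sup (f := fun y => expo y G hG) ((finite_ass_inter hG hV).mem_toFinset.2 ⟨h1, hy⟩))
          (Ideal.pow_mem_pow ((germ_mem_maximalIdeal_iff hV hy f).2 ((mem_primeAt_iff hV hy f).2 hf)) K)
    refine ⟨K + n, ⟨f ^ K • t, hmem⟩, (avoid G hG T).toι_injective _ ?_⟩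
    rw [app_resM, SubM.toι_smul]
    show resM G (X.basicOpen_le f) (f ^ K • t) = _
    rw [resM_smul, ht, smul_smul, ← map_mul, ← pow_add]
  · obtain ⟨n, hn⟩ := qcoh_exists_pow_smul_eq_zero hV G f ((avoidι G hG T).app _ a) (by
      rw [← app_resM, ha, map_zero])
    exact ⟨n, (avoid G hG T).toι_injective _ (by rw [SubM.toι_smul, hn, map_zero])⟩

theorem isCoh_avoidMod : Coh.IsCoh (avoidMod G hG T) :=
  isCoh_of_mono (avoidι G hG T) hG (isQCoh_avoidMod G hG T)

theorem bijective_avoidι_app {W : X.Opens} (hW : Disjoint (W : Set X) T) :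
    Function.Bijective ((avoidι G hG T).app W) :=
  ⟨(avoid G hG T).toι_injective W, fun s => ⟨⟨s, (mem_avoid_iff G hG T s).2 fun _ _ h2 h =>
    (Set.disjoint_left.1 hW h h2).elim⟩, rfl⟩⟩

theorem bijective_stalk_avoidι (hT : IsClosed T) {z : X} (hz : z ∉ T) :
    Function.Bijective ((DerSch.stalkFunctor X z).map (avoidι G hG T)) := by
  refine ⟨(ModuleCat.mono_iff_injective _).1 inferInstance, fun v => ?_⟩
  obtain ⟨W, hW, s, rfl⟩ := G.presheaf.exists_germ_eq (show G.presheaf.stalk z from v)
  let O : X.Opens := ⟨Tᶜ, hT.isOpen_compl⟩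
  obtain ⟨t, ht⟩ := (bijective_avoidι_app G hG T (W := W ⊓ O)
    (Set.disjoint_left.2 fun _ h h' => h.2 h')).2 (resM G inf_le_left s)
  refine ⟨(avoidMod G hG T).presheaf.germ (W ⊓ O) z ⟨hW, hz⟩ t, ?_⟩
  erw [stalk_map_germ, ht]
  exact TopCat.Presheaf.germ_res_apply G.presheaf (homOfLE (inf_le_left : W ⊓ O ≤ W)) z ⟨hW, hz⟩ s

theorem notMem_ass_avoidMod {a : X} (ha : a ∈ T) : a ∉ AssSch.Ass (avoidMod G hG T) := by
  intro hN
  have hGa : a ∈ AssSch.Ass G := ass_subset_of_mono _ (avoidι G hG T) hN
  obtain ⟨-, z, hz⟩ := isAssociatedPrime_iff.1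
    (show IsAssociatedPrime (IsLocalRing.maximalIdeal (X.presheaf.stalk a))
      ((avoidMod G hG T).presheaf.stalk a) from hN)
  have hne : z ≠ 0 := fun h => by
    subst h
    refine Ideal.IsPrime.ne_top' (I := IsLocalRing.maximalIdeal (X.presheaf.stalk a)) ?_
    rw [hz, Ideal.eq_top_iff_one, Submodule.mem_colon_singleton, Submodule.mem_bot, one_smul]
  obtain ⟨W, hW, s, rfl⟩ := (avoidMod G hG T).presheaf.exists_germ_eq z
  have hinj := (ModuleCat.mono_iff_injective ((DerSch.stalkFunctor X a).map (avoidι G hG T))).1 inferInstance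
  refine hne (hinj ?_)
  rw [map_zero]
  refine Eq.trans (stalk_map_germ (avoidι G hG T) hW s) ?_
  refine (exists_exponent G hG a).choose_spec.2 _ ((mem_avoid_iff G hG T _).1 s.2 a hGa ha hW) ?_
  intro r hr
  rw [hz, Submodule.mem_colon_singleton, Submodule.mem_bot] at hr
  have h1 := congrArg ((DerSch.stalkFunctor X a).map (avoidι G hG T)) hr
  rw [map_zero, map_smul] at h1
  erw [stalk_map_germ] at h1
  exact h1

/-- A map to the avoiding submodule which vanishes off `T` vanishes. -/
theorem eq_zero_of_stalk {P : X.Modules} (c : P ⟶ avoidMod G hG T)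
    (h : ∀ z, z ∉ T → ∀ u, (DerSch.stalkFunctor X z).map c u = 0) : c = 0 := by
  haveI := isQCoh_avoidMod G hG T
  refine Scheme.Modules.hom_ext _ _ fun W => ?_
  ext s
  refine sections_eq_of_locally fun x hx => ?_
  obtain ⟨V, hV, hxV, hVW⟩ := Opens.isBasis_iff_nbhd.mp X.isBasis_affineOpens hx
  refine ⟨V, hVW, hxV, ?_⟩
  rw [← app_resM]
  refine (eq_zero_of_germ_ass _ hV _ fun y hy hya => ?_).trans ((map_zero _).symm.trans (congrArg _ (by simp)))
  exact (stalk_map_germ c hy _).symm.trans (h y (fun hyT => notMem_ass_avoidMod G hG T hyT hya) _)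

end Groth.Agent.SubAvoid14
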